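import Mathlib

/-!
# Orders of matrices with many eigenvalues (helper5; a piece of S2262 for helper8)

If the characteristic polynomial of a matrix `M` over a finite field factors as `P * g`, then all the
matrices `1 + P(M) r(M)` lie in a set of at most `q ^ deg g` elements; this bounds the order of those
powers of `M` which are congruent to `1` modulo `P(M)`.
-/

set_option autoImplicit false

namespace Cfsg.Agent.Lib.Helper5.MeoE

open Polynomial Matrix

variable {F : Type*} [Field F] [Fintype F] {d : ℕ}

/-- the matrices `1 + P(M) r(M)` lie in a small finite set -/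
theorem exists_small_set (M : Matrix (Fin d) (Fin d) F) (P g : F[X]) (hg : g.Monic)
    (hPg : aeval M (P * g) = 0) :
    ∃ S : Finset (Matrix (Fin d) (Fin d) F), S.card ≤ Fintype.card F ^ g.natDegree ∧
      ∀ r : F[X], 1 + aeval M (P * r) ∈ S := by
  classical
  refine ⟨(Finset.univ : Finset (Fin g.natDegree → F)).image
    (fun c => 1 + aeval M (P * ((degreeLTEquiv F g.natDegree).symm c : F[X]))), ?_, ?_⟩
  · refine le_trans Finset.card_image_le ?_
    rw [Finset.card_univ, Fintype.card_fun, Fintype.card_fin]
  · intro r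
    rw [Finset.mem_image]
    have hdeg : r %ₘ g ∈ degreeLT F g.natDegree := by
      rw [mem_degreeLT]
      calc degree (r %ₘ g) < degree g := degree_modByMonic_lt r hg
        _ = g.natDegree := degree_eq_natDegree hg.ne_zero
    refine ⟨degreeLTEquiv F g.natDegree ⟨r %ₘ g, hdeg⟩, Finset.mem_univ _, ?_⟩
    rw [LinearEquiv.symm_apply_apply]
    show 1 + aeval M (P * (r %ₘ g)) = 1 + aeval M (P * r)
    congr 1
    have e : P * r = P * (r %ₘ g) + (P * g) * (r /ₘ g) := by
      conv_lhs => rw [← modByMonic_add_div r g]
      ring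
    rw [e, map_add, map_mul (aeval M) (P * g), hPg, zero_mul, add_zero]

/-- an element all of whose powers lie in a finite set has order at most its cardinality -/
theorem orderOf_le_card {G : Type*} [Monoid G] (y : G) (S : Finset G) (h : ∀ j : ℕ, y ^ j ∈ S) :
    orderOf y ≤ S.card := by
  have := Finset.card_le_card_of_injOn (fun j : ℕ => y ^ j) (s := Finset.range (orderOf y)) (t := S)
    (fun j _ => h j) (by
      intro a ha b hb hab
      exact pow_injOn_Iio_orderOf (by simpa using ha) (by simpa using hb) hab)
  simpa using this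

/-- the order of `M` is bounded when the powers of `M ^ k` are `1` modulo `P(M)` -/
theorem orderOf_pow_le (M : Matrix (Fin d) (Fin d) F) (P g : F[X]) (hg : g.Monic)
    (hPg : aeval M (P * g) = 0) (k : ℕ) (hdvd : ∀ j : ℕ, P ∣ X ^ (k * j) - 1) :
    orderOf (M ^ k) ≤ Fintype.card F ^ g.natDegree := by
  obtain ⟨S, hS, hmem⟩ := exists_small_set M P g hg hPg
  refine le_trans (orderOf_le_card (M ^ k) S ?_) hS
  intro j
  obtain ⟨r, hr⟩ := hdvd j
  have e : (X : F[X]) ^ (k * j) = 1 + P * r := by rw [← hr]; ring
  have h1 : aeval M ((X : F[X]) ^ (k * j)) = M ^ (k * j) := by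
    rw [map_pow, aeval_X]
  have h2 : aeval M ((X : F[X]) ^ (k * j)) = 1 + aeval M (P * r) := by
    rw [e, map_add, map_one]
  have : (M ^ k) ^ j = 1 + aeval M (P * r) := by
    rw [← pow_mul, ← h1, h2]
  rw [this]
  exact hmem r

end Cfsg.Agent.Lib.Helper5.MeoE
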