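import Cfsg.Agent.Lib.Helper5.MeoE.Core

/-!
# Orders of matrices with many eigenvalues (helper5; piece (E) of S2262 for helper8)

* `eig_bound`: over a field with `q ≥ 3` elements, an invertible matrix having all nonzero scalars as
  eigenvalues has projective order at most `(q ^ d - 1) / (2 (q - 1))`.
* `eig_bound_two`: over the field with two elements, an invertible `d × d` matrix (`d ≥ 4`) with eigenvalue
  `1` has order less than `2 ^ (d - 1)`.
-/

set_option autoImplicit false

namespace Cfsg.Agent.Lib.Helper5.MeoE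

open Polynomial Matrix

theorem num_bound (q n : ℕ) (hq : 3 ≤ q) :
    2 * ((q - 1) * ((q - 1) * q ^ n)) ≤ q ^ (q - 1 + n) - 1 := by
  obtain ⟨k, rfl⟩ : ∃ k, q = k + 1 := ⟨q - 1, by omega⟩
  have hk : 2 ≤ k := by omega
  simp only [Nat.add_sub_cancel]
  have key : 2 * k ^ 2 + 1 ≤ (k + 1) ^ k := by
    rcases Nat.lt_or_ge k 3 with h | h
    · have : k = 2 := by omega
      subst this; norm_num
    · calc 2 * k ^ 2 + 1 ≤ (k + 1) ^ 3 := by nlinarith
        _ ≤ (k + 1) ^ k := Nat.pow_le_pow_right (by omega) h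
  have hpos : 1 ≤ (k + 1) ^ n := Nat.one_le_pow _ _ (by omega)
  have : 2 * (k * (k * (k + 1) ^ n)) + 1 ≤ (k + 1) ^ (k + n) := by
    rw [pow_add]
    calc 2 * (k * (k * (k + 1) ^ n)) + 1 ≤ (2 * k ^ 2 + 1) * (k + 1) ^ n := by nlinarith
      _ ≤ (k + 1) ^ k * (k + 1) ^ n := Nat.mul_le_mul_right _ key
  omega

theorem add_two_le_two_pow (m : ℕ) (hm : 2 ≤ m) : m + 2 ≤ 2 ^ m := by
  induction m, hm using Nat.le_induction with
  | base => norm_num
  | succ m hm ih => rw [pow_succ]; omega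

section unitPoly

variable {F : Type*} [Field F] [Fintype F] [DecidableEq F]

theorem unitPoly_monic : (∏ μ : Fˣ, (X - C (μ : F))).Monic :=
  monic_prod_of_monic _ _ (fun _ _ => monic_X_sub_C _)

theorem unitPoly_natDegree : (∏ μ : Fˣ, (X - C (μ : F))).natDegree = Fintype.card F - 1 := by
  rw [natDegree_prod_of_monic _ _ (fun _ _ => monic_X_sub_C _)]
  simp [Fintype.card_units]

theorem unitPoly_dvd (f : F[X]) (hf : ∀ μ : F, μ ≠ 0 → f.IsRoot μ) :
    (∏ μ : Fˣ, (X - C (μ : F))) ∣ f := by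
  refine Fintype.prod_dvd_of_coprime (pairwise_coprime_X_sub_C Units.val_injective) ?_
  intro μ
  exact dvd_iff_isRoot.mpr (hf μ μ.ne_zero)

end unitPoly

theorem eig_bound {F : Type*} [Field F] [Fintype F] (d : ℕ) (hd : 3 ≤ d) (h : GL (Fin d) F)
    (hq : 3 ≤ Fintype.card F)
    (heig : ∀ μ : F, μ ≠ 0 → (h.val - Matrix.scalar (Fin d) μ).det = 0) :
    2 * ((Fintype.card F - 1) * orderOf (QuotientGroup.mk h :
      GL (Fin d) F ⧸ Subgroup.center (GL (Fin d) F))) ≤ Fintype.card F ^ d - 1 := by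
  classical
  set M : Matrix (Fin d) (Fin d) F := h.val with hM
  have hroot : ∀ μ : F, μ ≠ 0 → M.charpoly.IsRoot μ := by
    intro μ hμ
    rw [IsRoot.def, Matrix.eval_charpoly, ← neg_sub, Matrix.det_neg, heig μ hμ, mul_zero]
  obtain ⟨g, hg⟩ := unitPoly_dvd M.charpoly hroot
  have hQm := unitPoly_monic (F := F)
  have hgm : g.Monic := hQm.of_mul_monic_left (hg ▸ M.charpoly_monic)
  have hdeg : d = (Fintype.card F - 1) + g.natDegree := by
    have := M.charpoly_natDegree_eq_dim
    rw [hg, hQm.natDegree_mul hgm, unitPoly_natDegree, Fintype.card_fin] at this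
    exact this.symm
  have hPg : aeval M ((∏ μ : Fˣ, (X - C (μ : F))) * g) = 0 := by
    rw [← hg]; exact M.aeval_self_charpoly
  have hdvd : ∀ j : ℕ, (∏ μ : Fˣ, (X - C (μ : F))) ∣ X ^ ((Fintype.card F - 1) * j) - 1 := by
    intro j
    apply unitPoly_dvd
    intro μ hμ
    rw [IsRoot.def, eval_sub, eval_pow, eval_X, eval_one, pow_mul,
      FiniteField.pow_card_sub_one_eq_one μ hμ, one_pow, sub_self]
  have h1 := orderOf_pow_le M _ g hgm hPg (Fintype.card F - 1) hdvd
  have h2 : orderOf (h ^ (Fintype.card F - 1)) ≤ Fintype.card F ^ g.natDegree := by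
    rw [← orderOf_units, Units.val_pow_eq_pow_val]; exact h1
  have hpos : 0 < orderOf (h ^ (Fintype.card F - 1)) := orderOf_pos _
  have h3 : orderOf h ∣ (Fintype.card F - 1) * orderOf (h ^ (Fintype.card F - 1)) := by
    apply orderOf_dvd_of_pow_eq_one
    rw [pow_mul, pow_orderOf_eq_one]
  have h4 : orderOf h ≤ (Fintype.card F - 1) * Fintype.card F ^ g.natDegree :=
    le_trans (Nat.le_of_dvd (Nat.mul_pos (by omega) hpos) h3) (Nat.mul_le_mul_left _ h2)
  have h5 : orderOf (QuotientGroup.mk h : GL (Fin d) F ⧸ Subgroup.center (GL (Fin d) F)) ≤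
      orderOf h :=
    Nat.le_of_dvd (orderOf_pos h) (orderOf_map_dvd (QuotientGroup.mk' _) h)
  calc 2 * ((Fintype.card F - 1) * orderOf (QuotientGroup.mk h :
        GL (Fin d) F ⧸ Subgroup.center (GL (Fin d) F)))
      ≤ 2 * ((Fintype.card F - 1) * ((Fintype.card F - 1) * Fintype.card F ^ g.natDegree)) := by
        gcongr; exact le_trans h5 h4
    _ ≤ Fintype.card F ^ (Fintype.card F - 1 + g.natDegree) - 1 := num_bound _ _ hq
    _ = Fintype.card F ^ d - 1 := by rw [← hdeg]

theorem eig_bound_two {F : Type*} [Field F] [Fintype F] (d : ℕ) (hd : 4 ≤ d) (h : GL (Fin d) F)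
    (hq : Fintype.card F = 2) (heig : (h.val - 1).det = 0) : 2 * orderOf h ≤ 2 ^ d - 1 := by
  classical
  set M : Matrix (Fin d) (Fin d) F := h.val with hM
  have hroot : M.charpoly.IsRoot 1 := by
    rw [IsRoot.def, Matrix.eval_charpoly, map_one, ← neg_sub, Matrix.det_neg, heig, mul_zero]
  obtain ⟨g, hg⟩ := dvd_iff_isRoot.mpr hroot
  have hgm : g.Monic := (monic_X_sub_C (1 : F)).of_mul_monic_left (hg ▸ M.charpoly_monic)
  have hdeg : d = 1 + g.natDegree := by
    have := M.charpoly_natDegree_eq_dim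
    rw [hg, (monic_X_sub_C (1 : F)).natDegree_mul hgm, natDegree_X_sub_C, Fintype.card_fin] at this
    exact this.symm
  obtain ⟨m, hm⟩ : ∃ m, g.natDegree = m + 1 := ⟨g.natDegree - 1, by omega⟩
  have hm2 : 2 ≤ m := by omega
  have hPg : aeval M ((X - C (1 : F)) * g) = 0 := by rw [← hg]; exact M.aeval_self_charpoly
  have hdvd : ∀ j : ℕ, (X - C (1 : F)) ∣ X ^ (1 * j) - 1 := by
    intro j
    rw [dvd_iff_isRoot, IsRoot.def, eval_sub, eval_pow, eval_X, eval_one, one_pow, sub_self]
  have h1 := orderOf_pow_le M _ g hgm hPg 1 hdvd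
  rw [pow_one, hq, hm] at h1
  have h2 : orderOf h ≤ 2 ^ (m + 1) := by rw [← orderOf_units]; exact h1
  have h3 : orderOf h ≠ 2 ^ (m + 1) := by
    intro heq
    have : Fact (Nat.Prime 2) := ⟨Nat.prime_two⟩
    have : CharP F 2 := by
      apply CharTwo.of_one_ne_zero_of_two_eq_zero one_ne_zero
      have := Nat.cast_card_eq_zero F
      rw [hq] at this
      exact_mod_cast this
    have : Nonempty (Fin d) := ⟨⟨0, by omega⟩⟩
    have hM1 : M ^ (2 ^ (m + 1)) = 1 := by
      have h0 := pow_orderOf_eq_one h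
      rw [heq] at h0
      have h0' := congrArg Units.val h0
      rwa [Units.val_pow_eq_pow_val] at h0'
    have hε : (M - 1) ^ (2 ^ (m + 1)) = 0 := by
      rw [sub_pow_char_pow_of_commute 2 _ (Commute.one_right M), hM1, one_pow, sub_self]
    have hnil : IsNilpotent (M - 1) := ⟨_, hε⟩
    have hchar : (M - 1).charpoly = X ^ d := by
      have h0 := (Matrix.isNilpotent_charpoly_sub_pow_of_isNilpotent hnil).eq_zero
      rw [Fintype.card_fin] at h0
      exact sub_eq_zero.mp h0
    have hεd : (M - 1) ^ d = 0 := by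
      have h0 := (M - 1).aeval_self_charpoly
      rwa [hchar, map_pow, aeval_X] at h0
    have hle : d ≤ 2 ^ m := by
      have := add_two_le_two_pow m hm2
      omega
    have hε2 : (M - 1) ^ (2 ^ m) = 0 := pow_eq_zero_of_le hle hεd
    have hM2 : M ^ (2 ^ m) = 1 := by
      have e : M = (M - 1) + 1 := by abel
      rw [e, add_pow_char_pow_of_commute 2 _ (Commute.one_right _), hε2, one_pow, zero_add]
    have h4 : h ^ (2 ^ m) = 1 := by
      apply Units.ext
      rw [Units.val_pow_eq_pow_val, Units.val_one]; exact hM2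
    have hdiv := orderOf_dvd_of_pow_eq_one h4
    rw [heq] at hdiv
    have h5 := Nat.le_of_dvd (by positivity) hdiv
    rw [pow_succ] at h5
    have := Nat.one_le_two_pow (n := m)
    omega
  have h6 : orderOf h < 2 ^ (m + 1) := lt_of_le_of_ne h2 h3
  have e : 2 ^ d = 2 * 2 ^ (m + 1) := by rw [hdeg, hm, pow_add, pow_one]
  rw [e]
  omega

end Cfsg.Agent.Lib.Helper5.MeoE
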